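import Mathlib
import Cfsg.Agent.Lib.CharDeep.Gallagher

/-! Finite covers for character triples and the Gallagher correspondence along a span of groups. -/

set_option autoImplicit false

namespace CfsgLib.Triple

open Cfsg CfsgLib.Char CfsgLib.CharDeep Representation Module Finset
open scoped ComplexConjugate

universe u

/-- A central cover `Γ` of `G` to which the invariant character `θ` of `N` extends. -/
structure Cover {G : Type*} [Group G] (N : Subgroup G) [N.Normal] (θ : N → ℂ) (Γ : Type*)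
    [Group Γ] where
  π : Γ →* G
  ι : N →* Γ
  E : Γ → ℂ
  lam : π.ker →* ℂˣ
  surj : Function.Surjective π
  central : π.ker ≤ Subgroup.center Γ
  π_ι : ∀ n, π (ι n) = n
  conj_ι : ∀ x n, x * ι n * x⁻¹ = ι (cj N (π x) n)
  irr : IsIrrCharacter Γ E
  E_ι : ∀ n, E (ι n) = θ n
  lam_inj : Function.Injective lam
  E_mul : ∀ (z : π.ker) (x : Γ), E (z * x) = lam z * E x

theorem exists_cover_of_mem {G : Type u} [Group G] [Finite G] (N : Subgroup G) [hN : N.Normal]
    {d : ℕ} (ρ : Representation ℂ N (Fin d → ℂ)) [ρ.IsIrreducible]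
    (hinv : ∀ (g : G) (n : N), ρ.character (cj N g n) = ρ.character n) {k : ℕ} (hk : k ≠ 0)
    (hmem : (k : ℤ) ∈ extIdeal N ρ) :
    ∃ (Γ : Type u) (_ : Group Γ) (_ : Finite Γ) (c : Cover N ρ.character Γ),
      Nat.card c.π.ker ∣ k := by
  obtain ⟨δ, hδn, hδc⟩ := hmem
  simp only [zpow_natCast] at hδc
  have hV := nontrivial_of_isIrreducible ρ
  let π : δ.ker →* G := (projFst N ρ).comp δ.ker.subtype
  have hπ : Function.Surjective π := by
    intro g
    obtain ⟨p, rfl⟩ := projFst_surjective N ρ hinv g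
    obtain ⟨c, hc⟩ := IsAlgClosed.exists_pow_nat_eq (((δ p)⁻¹ : ℂˣ) : ℂ) (Nat.pos_of_ne_zero hk)
    have hc0 : c ≠ 0 := by
      rintro rfl
      rw [zero_pow hk] at hc
      exact Units.ne_zero _ hc.symm
    refine ⟨⟨projScalar N ρ (Units.mk0 c hc0) * p, ?_⟩, ?_⟩
    · rw [MonoidHom.mem_ker, map_mul, hδc, mul_eq_one_iff_eq_inv]
      exact Units.ext (by simpa using hc)
    · change projFst N ρ (_ * p) = _
      rw [map_mul, projFst_projScalar, one_mul]
  have hex : ∀ z : π.ker, ∃ c, projScalar N ρ c = (z : δ.ker) := fun z =>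
    exists_scalar_of_projFst_eq_one N ρ _ z.2
  choose l hl using hex
  let lam : π.ker →* ℂˣ := MonoidHom.mk' l (fun a b => projScalar_injective N ρ (by
    rw [map_mul, hl, hl, hl]; rfl))
  have hlam : Function.Injective lam := fun a b h =>
    Subtype.ext (Subtype.ext ((hl a).symm.trans ((congrArg _ h).trans (hl b))))
  have : NeZero k := ⟨hk⟩
  have hroot : ∀ z, lam z ∈ rootsOfUnity k ℂ := fun z => by
    rw [mem_rootsOfUnity, ← hδc]
    exact (congrArg δ (hl z)).trans (z : δ.ker).2
  have hinj : Function.Injective (lam.codRestrict _ hroot) :=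
    fun a b h => hlam (congrArg Subtype.val h)
  have hfinker : Finite π.ker := Finite.of_injective _ hinj
  have hfin : Finite δ.ker := by
    have : Finite (δ.ker ⧸ π.ker) :=
      Finite.of_equiv _ (QuotientGroup.quotientKerEquivOfSurjective π hπ).toEquiv.symm
    exact Finite.of_equiv _ (Subgroup.groupEquivQuotientProdSubgroup (s := π.ker)).symm
  let ι : N →* δ.ker := (projInl N ρ).codRestrict _ hδn
  let σ : Representation ℂ δ.ker (Fin d → ℂ) := (projRep N ρ).comp δ.ker.subtype
  have hσ : σ.IsIrreducible := isIrreducible_of_restrict ι ρ σ (fun _ => rfl)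
  refine ⟨δ.ker, inferInstance, hfin, ⟨π, ι, σ.character, lam, hπ, fun z hz => ?_, fun _ => rfl,
    fun x n => Subtype.ext (conj_projInl N ρ x n), isIrrCharacter_of_rep σ, fun _ => rfl, hlam,
    fun z x => ?_⟩, ?_⟩
  · rw [Subgroup.mem_center_iff]
    intro x
    apply Subtype.ext
    rw [Subgroup.coe_mul, Subgroup.coe_mul, ← hl ⟨z, hz⟩]
    exact (projScalar_comm N ρ _ _).eq.symm
  · unfold Representation.character
    rw [map_mul]
    have : σ z = algebraMap ℂ _ (lam z : ℂ) := by
      change projRep N ρ (z : δ.ker) = _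
      rw [← hl z]; rfl
    rw [this, ← Algebra.smul_def, map_smul]
    rfl
  · have h1 := Subgroup.card_dvd_of_injective _ hinj
    rwa [Complex.card_rootsOfUnity] at h1

/-- Existence of a finite cover whose kernel has order dividing both the index of `N` and
`o(θ) θ(1)`. -/
theorem exists_cover {G : Type u} [Group G] [Finite G] (N : Subgroup G) [hN : N.Normal]
    {θ : N → ℂ} (hθ : IsIrrCharacter N θ) (hinv : ∀ (g : G) (n : N), θ (cj N g n) = θ n)
    {d : ℕ} (hd : θ 1 = d) :
    ∃ (Γ : Type u) (_ : Group Γ) (_ : Finite Γ) (c : Cover N θ Γ),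
      Nat.card c.π.ker ∣ N.index ∧ Nat.card c.π.ker ∣ detOrder θ * d := by
  obtain ⟨n, ρ, hρ, rfl⟩ := hθ
  have hd' : finrank ℂ (Fin n → ℂ) = d := by
    rw [char_one] at hd; exact_mod_cast hd
  have h1 := index_self_mem_extIdeal N ρ (projFst_surjective N ρ hinv)
  have h2 := det_mem_extIdeal N ρ (detOrder ρ.character) 1 (fun m => by
    rw [← detChar_of_irreducible ρ, ← Pi.pow_apply, detOrder, pow_orderOf_eq_one]; rfl)
  rw [hd'] at h2
  obtain ⟨Γ, _, _, c, hc⟩ := exists_cover_of_mem N ρ hinv
    (k := Nat.gcd N.index (detOrder ρ.character * d))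
    (Nat.gcd_ne_zero_left N.index_ne_zero_of_finite) (by
      rw [Nat.gcd_eq_gcd_ab, mul_comm, mul_comm (_ : ℤ) (Nat.gcdB _ _)]
      exact add_mem (zsmul_mem h1 _) (zsmul_mem h2 _))
  exact ⟨Γ, _, inferInstance, c, hc.trans (Nat.gcd_dvd_left _ _), hc.trans (Nat.gcd_dvd_right _ _)⟩

theorem detOrder_dvd_card {G : Type*} [Group G] (χ : G → ℂ) : detOrder χ ∣ Nat.card G := by
  obtain ⟨μ, hμ⟩ := exists_hom_detChar χ
  refine orderOf_dvd_of_pow_eq_one (funext fun g => ?_)
  rw [Pi.pow_apply, hμ, ← Units.val_pow_eq_pow_val, ← map_pow, pow_card_eq_one']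
  simp

namespace Cover

variable {G : Type*} [Group G] {N : Subgroup G} [N.Normal] {θ : N → ℂ} {Γ : Type*} [Group Γ]
  (c : Cover N θ Γ)

theorem ι_injective : Function.Injective c.ι := fun a b e =>
  Subtype.ext (by rw [← c.π_ι, ← c.π_ι, e])

instance range_normal : c.ι.range.Normal :=
  ⟨by rintro _ ⟨n, rfl⟩ x; exact ⟨_, (c.conj_ι x n).symm⟩⟩

theorem ker_inf_range : c.π.ker ⊓ c.ι.range = ⊥ := by
  rw [eq_bot_iff]
  rintro _ ⟨h, n, rfl⟩
  have : n = 1 := Subtype.ext ((c.π_ι n).symm.trans h)
  rw [this, map_one]; exact Subgroup.one_mem _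

theorem mem_comap_iff {x : Γ} : c.π x ∈ N ↔ ∃ z ∈ c.π.ker, ∃ n, x = z * c.ι n := by
  constructor
  · intro hx
    exact ⟨x * (c.ι ⟨c.π x, hx⟩)⁻¹, by simp [MonoidHom.mem_ker, c.π_ι], ⟨c.π x, hx⟩, by simp⟩
  · rintro ⟨z, hz, n, rfl⟩
    rw [map_mul, hz, one_mul, c.π_ι]; exact n.2

theorem comap_eq : N.comap c.π = c.π.ker ⊔ c.ι.range := by
  apply le_antisymm
  · intro x hx
    obtain ⟨z, hz, n, rfl⟩ := c.mem_comap_iff.mp hx
    exact Subgroup.mul_mem_sup hz ⟨n, rfl⟩
  · refine sup_le (fun z hz => ?_) ?_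
    · change c.π z ∈ N
      rw [hz]; exact N.one_mem
    · rintro _ ⟨n, rfl⟩
      change c.π (c.ι n) ∈ N
      rw [c.π_ι]; exact n.2

theorem isCyclic_ker [Finite Γ] : IsCyclic c.π.ker :=
  isCyclic_of_injective_ringHom ((Units.coeHom ℂ).comp c.lam) (Units.val_injective.comp c.lam_inj)

theorem E_one : c.E 1 = θ 1 := by rw [← c.E_ι, map_one]

/-- The restriction of `E` to any subgroup mapping onto `ι(N)` bijectively is irreducible. -/
theorem isIrr_res (hθ : IsIrrCharacter N θ) {M : Type*} [Group M] (j : M →* Γ)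
    (hj : Function.Injective j) (hr : j.range = c.ι.range) :
    IsIrrCharacter M (fun m => c.E (j m)) := by
  let e : M ≃* N := (MonoidHom.ofInjective hj).trans ((MulEquiv.subgroupCongr hr).trans
    (MonoidHom.ofInjective c.ι_injective).symm)
  have := isIrr_comp_mulEquiv e hθ
  convert this using 2 with m
  rw [← c.E_ι]
  congr 1
  exact (congrArg Subtype.val ((MonoidHom.ofInjective c.ι_injective).apply_symm_apply
    (MulEquiv.subgroupCongr hr (MonoidHom.ofInjective hj m)))).symm

end Cover

section span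

variable {Γ H K : Type*} [Group Γ] [Group H] [Group K] [Finite Γ]
  (p : Γ →* H) (q : Γ →* K) {E : Γ → ℂ}

/-- Inner products are preserved by `β ↦ (β ∘ q) E`. -/
theorem classInner_mul_ext [Fintype Γ] [Fintype K] (hq : Function.Surjective q)
    (hE : IsCharacter Γ E) (hEq : IsIrrCharacter q.ker (fun n => E n)) (β β' : K → ℂ) :
    classInner (fun x => β (q x) * E x) (fun x => β' (q x) * E x) = classInner β β' := by
  classical
  rw [← classInner_comp_of_surjective q hq β β', classInner_def, classInner_def]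
  congr 1
  apply mul_left_cancel₀ (natCard_ne_zero (G := q.ker))
  have h1 : ∀ n : q.ker, ∑ x, β (q x) * E x * conj (β' (q x) * E x) =
      ∑ x, β (q x) * conj (β' (q x)) * (E (n * x) * conj (E (n * x))) := by
    intro n
    symm
    refine Fintype.sum_equiv (Equiv.mulLeft (n : Γ)) _ _ fun x => ?_
    have : q (n * x) = q x := by rw [map_mul, n.2, one_mul]
    simp only [Equiv.coe_mulLeft, this, map_mul]
    ring
  calc (Nat.card q.ker : ℂ) * ∑ x, β (q x) * E x * conj (β' (q x) * E x)
      = ∑ n : q.ker, ∑ x, β (q x) * conj (β' (q x)) * (E (n * x) * conj (E (n * x))) := by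
        rw [← sum_congr rfl (fun n _ => h1 n), sum_const, card_univ, nsmul_eq_mul,
          Nat.card_eq_fintype_card]
    _ = _ := by
        rw [sum_comm, mul_sum]
        refine sum_congr rfl fun x _ => ?_
        rw [← mul_sum, sum_coset_mul_conj q.ker hE hEq, mul_comm]

/-- Inner products along a span. -/
theorem classInner_span [Fintype H] [Fintype K] (hp : Function.Surjective p)
    (hq : Function.Surjective q) (hE : IsCharacter Γ E)
    (hEq : IsIrrCharacter q.ker (fun n => E n)) {χ χ' : H → ℂ} {β β' : K → ℂ}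
    (h : ∀ x, χ (p x) = β (q x) * E x) (h' : ∀ x, χ' (p x) = β' (q x) * E x) :
    classInner χ χ' = classInner β β' := by
  have := Fintype.ofFinite Γ
  rw [← classInner_comp_of_surjective p hp, funext h, funext h', classInner_mul_ext q hq hE hEq]

theorem span_unique (hq : Function.Surjective q) (hE : IsCharacter Γ E)
    (hEq : IsIrrCharacter q.ker (fun n => E n)) {β β' : K → ℂ}
    (h : ∀ x, β (q x) * E x = β' (q x) * E x) : β = β' := by
  have := Fintype.ofFinite Γ
  have : Finite K := Finite.of_surjective q hq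
  have := Fintype.ofFinite K
  have h1 := classInner_mul_ext q hq hE hEq (β - β') (β - β')
  have h2 : (fun x => (β - β') (q x) * E x) = 0 := by
    funext x; simp [sub_mul, h x]
  rw [h2, classInner_zero_left] at h1
  exact sub_eq_zero.mp (classInner_self_eq_zero.mp h1.symm)

/-- From the quotient side to the original group: characters. -/
theorem span_up_char (hp : Function.Surjective p) (hE : IsCharacter Γ E) (lam : p.ker → ℂ)
    (hlam : ∀ z : p.ker, E z = lam z * E 1) {β : K → ℂ} (hβ : IsCharacter K β)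
    (hβl : ∀ z : p.ker, lam z * β (q z) = β 1) :
    ∃ χ, IsCharacter H χ ∧ ∀ x, χ (p x) = β (q x) * E x :=
  exists_char_comp_eq p hp (isCharacter_mul (isCharacter_comp q hβ) hE) (fun g hg => by
    have h1 := hlam ⟨g, hg⟩
    have h2 := hβl ⟨g, hg⟩
    simp only [map_one] at h1 h2 ⊢
    rw [h1, ← h2]; ring)

/-- From the quotient side to the original group: irreducible characters. -/
theorem span_up (hp : Function.Surjective p) (hq : Function.Surjective q) (hE : IsCharacter Γ E)
    (hEq : IsIrrCharacter q.ker (fun n => E n)) (lam : p.ker → ℂ)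
    (hlam : ∀ z : p.ker, E z = lam z * E 1) {β : K → ℂ} (hβ : IsIrrCharacter K β)
    (hβl : ∀ z : p.ker, lam z * β (q z) = β 1) :
    ∃ χ, IsIrrCharacter H χ ∧ ∀ x, χ (p x) = β (q x) * E x := by
  have : Finite H := Finite.of_surjective p hp
  have : Finite K := Finite.of_surjective q hq
  have := Fintype.ofFinite H
  have := Fintype.ofFinite K
  obtain ⟨χ, hχ, h⟩ := span_up_char p q hp hE lam hlam (isCharacter_of_isIrr hβ) hβl
  exact ⟨χ, isIrr_of_inner_self_eq_one hχ
    (by rw [classInner_span p q hp hq hE hEq h h, classInner_irr_self hβ]), h⟩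

/-- From the original group to the quotient side. -/
theorem span_down [Fintype q.ker] (hp : Function.Surjective p) (hq : Function.Surjective q)
    (hE : IsCharacter Γ E) (hEq : IsIrrCharacter q.ker (fun n => E n)) (lam : p.ker → ℂ)
    (hlam : ∀ z : p.ker, E z = lam z * E 1) {χ : H → ℂ} (hχ : IsIrrCharacter H χ)
    (h : classInner (fun n : q.ker => χ (p n)) (fun n => E n) ≠ 0) :
    ∃ β, IsIrrCharacter K β ∧ (∀ z : p.ker, lam z * β (q z) = β 1) ∧
      ∀ x, χ (p x) = β (q x) * E x := by
  have := Fintype.ofFinite Γ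
  obtain ⟨β, hβ, hβN, hβχ⟩ := gallagher_surj q.ker hE hEq (isIrr_comp_of_surjective p hp hχ) h
  obtain ⟨β', hβ', h'⟩ := exists_irr_comp_eq q hq hβ (fun g hg => hβN g hg)
  have h1 : ∀ x, χ (p x) = β' (q x) * E x := fun x => by rw [h']; exact congrFun hβχ x
  refine ⟨β', hβ', fun z => ?_, h1⟩
  have h2 := h1 z
  have h3 := h1 1
  rw [z.2, hlam] at h2
  rw [map_one, map_one] at h3
  apply mul_right_cancel₀ (irr_one_ne_zero hEq)
  change _ * E 1 = _ * E 1
  rw [← h3, h2]; ring

omit [Finite Γ] in
/-- A character of the form `(β ∘ q) E` restricts to a multiple of `E` on the kernel of `q`. -/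
theorem span_res {χ : H → ℂ} {β : K → ℂ} (h : ∀ x, χ (p x) = β (q x) * E x) (n : q.ker) :
    χ (p n) = β 1 * E n := by rw [h, n.2]

end span

end CfsgLib.Triple
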